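import Mathlib

/-!
Real elements whose centralizer contains a Sylow 2-subgroup.
-/

set_option autoImplicit false

namespace CfsgLib.RealElt

variable {G : Type*} [Group G]

theorem inverts_pow_odd {t x : G} (h : t * x * t⁻¹ = x⁻¹) (m : ℕ) :
    t ^ (2 * m + 1) * x * (t ^ (2 * m + 1))⁻¹ = x⁻¹ := by
  induction m with
  | zero => simpa using h
  | succ m ih =>
    have e : 2 * (m + 1) + 1 = 2 + (2 * m + 1) := by ring
    rw [e, pow_add, mul_inv_rev]
    calc t ^ 2 * t ^ (2 * m + 1) * x * ((t ^ (2 * m + 1))⁻¹ * (t ^ 2)⁻¹)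
        = t ^ 2 * (t ^ (2 * m + 1) * x * (t ^ (2 * m + 1))⁻¹) * (t ^ 2)⁻¹ := by
          simp only [mul_assoc]
      _ = t ^ 2 * x⁻¹ * (t ^ 2)⁻¹ := by rw [ih]
      _ = t * (t * x * t⁻¹)⁻¹ * t⁻¹ := by rw [pow_two]; simp [mul_assoc]
      _ = x⁻¹ := by rw [h, inv_inv, h]

/-- An element inverted by some element is inverted by some `2`-element. -/
theorem exists_two_element_inverts [Finite G] {x : G} (hx : IsConj x x⁻¹) :
    ∃ t : G, (∃ k : ℕ, orderOf t = 2 ^ k) ∧ t * x * t⁻¹ = x⁻¹ := by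
  obtain ⟨t, ht⟩ := isConj_iff.mp hx
  obtain ⟨k, m, hm, hkm⟩ :=
    Nat.exists_eq_pow_mul_and_not_dvd (orderOf_pos t).ne' 2 (by norm_num)
  obtain ⟨l, hl⟩ : Odd m := Nat.not_even_iff_odd.mp (fun he => hm he.two_dvd)
  refine ⟨t ^ m, ⟨k, ?_⟩, ?_⟩
  · rw [orderOf_pow, hkm, Nat.gcd_eq_right (Dvd.intro_left _ rfl),
      Nat.mul_div_cancel _ (by omega)]
  · rw [hl]; exact inverts_pow_odd ht l

/-- A real element centralizing a Sylow `2`-subgroup squares to one. -/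
theorem sq_eq_one_of_le_centralizer [Finite G] {x : G} (S : Sylow 2 G)
    (hS : (S : Subgroup G) ≤ Subgroup.centralizer ({x} : Set G)) (hx : IsConj x x⁻¹) :
    x ^ 2 = 1 := by
  obtain ⟨t, ⟨k, hk⟩, ht⟩ := exists_two_element_inverts hx
  set H := Subgroup.normalizer ((Subgroup.zpowers x : Subgroup G) : Set G)
  have hSH : (S : Subgroup G) ≤ H := by
    intro s hs
    refine Subgroup.centralizer_le_normalizer _ ?_
    rw [Subgroup.mem_centralizer_iff]
    rintro _ ⟨a, rfl⟩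
    have hc : Commute s x := Subgroup.mem_centralizer_singleton_iff.mp (hS hs)
    exact (hc.zpow_right a).symm
  have htH : t ∈ H := by
    rw [Subgroup.mem_normalizer_iff]
    intro n
    constructor
    · rintro ⟨a, rfl⟩
      refine ⟨-a, ?_⟩
      simp only
      rw [← conj_zpow, ht, inv_zpow', ]
    · rintro ⟨a, ha⟩
      simp only at ha
      refine ⟨-a, ?_⟩
      simp only
      have h2 : x ^ (-a) = t⁻¹ * x ^ a * t := by
        calc x ^ (-a) = t⁻¹ * (t * x ^ (-a) * t⁻¹) * t := by group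
          _ = t⁻¹ * x ^ a * t := by rw [← conj_zpow, ht, inv_zpow', neg_neg]
      rw [h2, ha]; group
  have hp : IsPGroup 2 (Subgroup.zpowers (⟨t, htH⟩ : H)) := by
    refine IsPGroup.of_card (n := k) ?_
    rw [Nat.card_zpowers, Subgroup.orderOf_mk, hk]
  obtain ⟨R, hR⟩ := hp.exists_le_sylow
  obtain ⟨h, hh⟩ := MulAction.exists_smul_eq H R (S.subtype hSH)
  have hmem : h * ⟨t, htH⟩ * h⁻¹ ∈ ((S.subtype hSH : Sylow 2 H) : Subgroup H) := by
    rw [← hh, Sylow.coe_subgroup_smul, Subgroup.mem_pointwise_smul_iff_inv_smul_mem]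
    simpa [MulAut.smul_def, mul_assoc] using hR (Subgroup.mem_zpowers _)
  rw [Sylow.coe_subtype, Subgroup.mem_subgroupOf] at hmem
  have hc := Subgroup.mem_centralizer_singleton_iff.mp (hS hmem)
  simp only [Subgroup.coe_mul, Subgroup.coe_inv] at hc
  obtain ⟨a, ha⟩ := (Subgroup.mem_normalizer_iff.mp (h : H).2 ((h : G)⁻¹ * x * h)).mpr
    (by simp [mul_assoc])
  simp only at ha
  have h3 : ((h : G) * t * (h : G)⁻¹) * x * ((h : G) * t * (h : G)⁻¹)⁻¹ = x⁻¹ := by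
    calc ((h : G) * t * (h : G)⁻¹) * x * ((h : G) * t * (h : G)⁻¹)⁻¹
        = (h : G) * (t * ((h : G)⁻¹ * x * h) * t⁻¹) * (h : G)⁻¹ := by group
      _ = (h : G) * ((h : G)⁻¹ * x * h)⁻¹ * (h : G)⁻¹ := by
          rw [← ha, ← conj_zpow, ht, inv_zpow]
      _ = x⁻¹ := by group
  rw [hc, mul_inv_cancel_right] at h3
  rw [pow_two]
  calc x * x = x * x⁻¹ := by rw [← h3]
    _ = 1 := mul_inv_cancel x

theorem orderOf_eq_two [Finite G] {x : G} (hx1 : x ≠ 1) (S : Sylow 2 G)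
    (hS : (S : Subgroup G) ≤ Subgroup.centralizer ({x} : Set G)) (hx : IsConj x x⁻¹) :
    orderOf x = 2 :=
  orderOf_eq_prime (sq_eq_one_of_le_centralizer S hS hx) hx1

end CfsgLib.RealElt
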